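import Cfsg.Agent.Lib.RepChk.Basic
import Cfsg.Agent.Lib.ClSys.Omega
import Cfsg.Agent.Lib.Stein.Graph
import Cfsg.Agent.Lib.RGD.Simple

/-!
The isomorphism `D₄(F) ≅ PΩ₈⁺(F)`, matching root elements.
-/

set_option autoImplicit false

namespace CfsgLib.RepChk

open Cfsg.Lie CfsgLib.Stein CfsgLib.Weyl CfsgLib.ClSys CfsgLib.Chev CfsgLib.RGD Matrix

/-- the roots of `D₄` as `ε_a + ε_b` -/
def d4R (r : ℕ) : MidR 4 :=
  ([⟨(.inr 1, .inr 0), by decide⟩, ⟨(.inr 2, .inr 0), by decide⟩, ⟨(.inl 3, .inr 0), by decide⟩,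
    ⟨(.inr 3, .inr 0), by decide⟩, ⟨(.inl 2, .inr 0), by decide⟩, ⟨(.inl 1, .inr 0), by decide⟩,
    ⟨(.inr 2, .inr 1), by decide⟩, ⟨(.inl 3, .inr 1), by decide⟩, ⟨(.inr 3, .inr 1), by decide⟩,
    ⟨(.inl 2, .inr 1), by decide⟩, ⟨(.inl 3, .inr 2), by decide⟩, ⟨(.inr 3, .inr 2), by decide⟩,
    ⟨(.inl 2, .inl 3), by decide⟩, ⟨(.inl 2, .inr 3), by decide⟩, ⟨(.inl 1, .inr 2), by decide⟩,
    ⟨(.inl 1, .inl 3), by decide⟩, ⟨(.inl 1, .inr 3), by decide⟩, ⟨(.inl 1, .inl 2), by decide⟩,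
    ⟨(.inl 0, .inr 1), by decide⟩, ⟨(.inl 0, .inr 2), by decide⟩, ⟨(.inl 0, .inl 3), by decide⟩,
    ⟨(.inl 0, .inr 3), by decide⟩, ⟨(.inl 0, .inl 2), by decide⟩, ⟨(.inl 0, .inl 1), by decide⟩] : List (MidR 4)).getD r ⟨(.inr 1, .inr 0), by decide⟩

/-- the signs -/
def d4e (r : ℕ) : ℤ := [1, 1, 1, 1, -1, 1, -1, -1, -1, 1, 1, 1, 1, 1, 1, -1, -1, -1, 1, -1, 1, 1, 1, 1].getD r 1

/-- the matrices of the root elements -/
def d4X (r : ℕ) : List (Tm1 (II 4)) :=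
  [((d4R r).1.1, (d4R r).1.2.swap, d4e r, 1), ((d4R r).1.2, (d4R r).1.1.swap, -d4e r, 1)]

theorem d4X_chk : ∀ r < chevD4.nroots, rootChk chevD4 d4X r = true := by decide +kernel

theorem d4R_surj : ∀ R : MidR 4, ∃ r < chevD4.nroots, d4R r = R ∧ d4e r * d4e r = 1 := by
  decide +kernel

variable (F : Type*) [Field F]

/-- the root elements of type `D₄` in `Ω₈⁺(F)` -/
noncomputable def om8 (r : ℕ) (t : F) : Cfsg.Omega F (Cfsg.quadFormPlus 4 F) :=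
  (omegaPlusSys (m := 4) (by norm_num) (by norm_num)).x (d4R r) (d4e r * t)

/-- the matrix of an element of `Ω₈⁺(F)` -/
def om8Mat : Cfsg.Omega F (Cfsg.quadFormPlus 4 F) →* Matrix (II 4) (II 4) F :=
  (Units.coeHom _).comp (omegaToGL _)

theorem om8Mat_injective : Function.Injective (om8Mat F) :=
  Units.val_injective.comp omegaToGL_injective

variable {F}

theorem om8Mat_om8 (r : ℕ) (t : F) : om8Mat F (om8 F r t) = 1 + ev1 t (d4X r) := by
  rw [om8Mat, MonoidHom.comp_apply, om8, omegaPlusSys_toGL]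
  change (mid (iota 4) 1 _ _ (d4R r).ne_swap _).1 = _
  rw [mid_coe, sg_one, d4X, ev1_cons, ev1_cons, ev1_nil, add_zero, add_assoc, EE, EE, smul_single,
    smul_single]
  simp [iota]

theorem rel12_om8 : Rel12 chevD4 (om8 F) :=
  rel12_of_chk rtOKD4 d4X_chk (om8Mat F) (om8Mat_injective F) fun r _ t => om8Mat_om8 r t

theorem om8_gen : UUx (fun (r : Fin chevD4.nroots) t => om8 F r t) Set.univ = ⊤ := by
  rw [eq_top_iff, ← omegaPlusSys_grp (m := 4) (by norm_num) (by norm_num), StSys.grp,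
    StSys.UU_le_iff]
  intro R _ t
  obtain ⟨r, hr, rfl, he⟩ := d4R_surj R
  have := mem_UUx (fun (r : Fin chevD4.nroots) t => om8 F r t) (Ψ := Set.univ) (r := ⟨r, hr⟩) trivial
    (d4e r * t)
  rwa [om8, ← mul_assoc, ← Int.cast_mul, he, Int.cast_one, one_mul] at this

theorem exists_d4Iso : ∃ φ : chevD4.group F ≃* Cfsg.POmega F (Cfsg.quadFormPlus 4 F),
    ∀ r < chevD4.nroots, ∀ t, φ (xG chevD4 F r t) = om8 F r t :=
  exists_equiv_quot_center rtOKD4 genOKD4 isSimpleGroup_D4 rel12_om8 om8_gen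
    ⟨om8 F 18 1, om8 F 14 1, fun h => by
      have := congrFun (congrFun (congrArg (om8Mat F) h) (.inl 0)) (.inl 2)
      simp [om8Mat_om8, d4X, d4R, d4e, ev1, Matrix.mul_apply, single_apply, one_apply,
        Fin.sum_univ_four] at this⟩

variable (F) in
/-- The isomorphism `D₄(F) ≅ PΩ₈⁺(F)`. -/
noncomputable def d4Iso : chevD4.group F ≃* Cfsg.POmega F (Cfsg.quadFormPlus 4 F) :=
  exists_d4Iso.choose

theorem d4Iso_xG {r : ℕ} (hr : r < chevD4.nroots) (t : F) : d4Iso F (xG chevD4 F r t) = om8 F r t :=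
  exists_d4Iso.choose_spec r hr t

end CfsgLib.RepChk
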